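import Groth.Agent.EtContLib.Cohom
import Groth.Prelude.Def_LefMon

/-!
# Functoriality of pullback on cohomology with constant coefficients
-/

set_option autoImplicit false
set_option linter.style.haveILetI false
set_option backward.isDefEq.respectTransparency false
set_option backward.isDefEq.respectTransparency.types false
set_option synthInstance.maxHeartbeats 400000
set_option maxHeartbeats 1000000

universe u

open CategoryTheory CategoryTheory.Limits CategoryTheory.Abelian AlgebraicGeometry Opposite DescSecLib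

noncomputable section

namespace HmapLib

variable {A B C : Scheme.{u}}

/-- Maps out of a constant sheaf are tested on maps from the constant sheaf of the integers. -/
theorem const_hom_ext {M : AddCommGrpCat.{u + 1}} {F : EtCoh.Ab A}
    {α β : (constantSheaf A.smallEtaleTopology AddCommGrpCat.{u + 1}).obj M ⟶ F}
    (h : ∀ g : AddCommGrpCat.of (ULift.{u + 1} ℤ) ⟶ M,
      (constantSheaf A.smallEtaleTopology AddCommGrpCat.{u + 1}).map g ≫ α =
        (constantSheaf A.smallEtaleTopology AddCommGrpCat.{u + 1}).map g ≫ β) : α = β := by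
  refine ((EtCore.constAdj A).homEquiv _ _).injective (ConcreteCategory.hom_ext _ _ fun a => ?_)
  let g : AddCommGrpCat.of (ULift.{u + 1} ℤ) ⟶ M :=
    AddCommGrpCat.ofHom ((zmultiplesHom M a).comp AddEquiv.ulift.toAddMonoidHom)
  have hg : g ⟨1⟩ = a := one_zsmul a
  have h1 := congrArg ((EtCore.constAdj A).homEquiv _ _) (h g)
  rw [Adjunction.homEquiv_naturality_left, Adjunction.homEquiv_naturality_left] at h1
  have h2 := ConcreteCategory.congr_hom h1 (⟨1⟩ : ULift.{u + 1} ℤ)
  rw [ConcreteCategory.comp_apply, ConcreteCategory.comp_apply, hg] at h2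
  exact h2

/-- The identifications of pulled back constant sheaves compose. -/
theorem pullConst_inv_comp (a : A ⟶ B) (b : B ⟶ C) (c : A ⟶ C) (w : a ≫ b = c) (M : AddCommGrpCat.{u + 1}) :
    (EtCore.pullConstIso a).inv.app M ≫ (EtCoh.pull a).map ((EtCore.pullConstIso b).inv.app M) ≫
        (etSys.c a b c w).app ((constantSheaf C.smallEtaleTopology AddCommGrpCat.{u + 1}).obj M) =
      (EtCore.pullConstIso c).inv.app M := by
  refine const_hom_ext fun g => ?_
  let cA := constantSheaf A.smallEtaleTopology AddCommGrpCat.{u + 1}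
  let cB := constantSheaf B.smallEtaleTopology AddCommGrpCat.{u + 1}
  let cC := constantSheaf C.smallEtaleTopology AddCommGrpCat.{u + 1}
  let Z : AddCommGrpCat.{u + 1} := AddCommGrpCat.of (ULift.{u + 1} ℤ)
  have ha : cA.map g ≫ (EtCore.pullConstIso a).inv.app M =
      DescSecLib.etZ a ≫ (EtCoh.pull a).map (cB.map g) := by
    rw [← EtSliceLib.pullConst_inv_eq_etZ a]
    exact (EtCore.pullConstIso a).inv.naturality g
  have hb : cB.map g ≫ (EtCore.pullConstIso b).inv.app M =
      DescSecLib.etZ b ≫ (EtCoh.pull b).map (cC.map g) := by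
    rw [← EtSliceLib.pullConst_inv_eq_etZ b]
    exact (EtCore.pullConstIso b).inv.naturality g
  have hc : cA.map g ≫ (EtCore.pullConstIso c).inv.app M =
      DescSecLib.etZ c ≫ (EtCoh.pull c).map (cC.map g) := by
    rw [← EtSliceLib.pullConst_inv_eq_etZ c]
    exact (EtCore.pullConstIso c).inv.naturality g
  rw [hc, ← Category.assoc, ha, Category.assoc, ← Functor.map_comp_assoc, hb, Functor.map_comp, Category.assoc]
  have hn : (EtCoh.pull a).map ((EtCoh.pull b).map (cC.map g)) ≫ (etSys.c a b c w).app (cC.obj M) =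
      (etSys.c a b c w).app (cC.obj Z) ≫ (EtCoh.pull c).map (cC.map g) := (etSys.c a b c w).naturality (cC.map g)
  rw [hn, ← Category.assoc, ← Category.assoc]
  refine congrArg (· ≫ (EtCoh.pull c).map (cC.map g)) ?_
  rw [Category.assoc]
  exact etSys.z_comp a b c w

theorem pullConst_comp (a : A ⟶ B) (b : B ⟶ C) (c : A ⟶ C) (w : a ≫ b = c) (M : Type) [AddCommGroup M] :
    (EtCoh.pull a).map (EtCore.pullConst b M).hom ≫ (EtCore.pullConst a M).hom =
      (etSys.c a b c w).app (EtCoh.const C M) ≫ (EtCore.pullConst c M).hom := by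
  have h := pullConst_inv_comp a b c w (AddCommGrpCat.of (ULift.{u + 1} M))
  rw [← cancel_mono (EtCore.pullConst a M).inv, Category.assoc, Iso.hom_inv_id, Category.comp_id,
    ← cancel_epi ((EtCoh.pull a).map (EtCore.pullConst b M).inv), ← Functor.map_comp, Iso.inv_hom_id]
  rw [CategoryTheory.Functor.map_id, ← cancel_epi (EtCore.pullConst a M).inv]
  simp only [Category.assoc]
  erw [reassoc_of% h]
  rw [Category.comp_id]
  exact (Iso.inv_hom_id_assoc (EtCore.pullConst c M) _).symm

/-- Pullback on cohomology with constant coefficients is functorial. -/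
theorem Hmap_comp (a : A ⟶ B) (b : B ⟶ C) (c : A ⟶ C) (w : a ≫ b = c) (ℓ : ℕ)
    (ha : PreservesFiniteLimits (EtCoh.pull a)) (hb : PreservesFiniteLimits (EtCoh.pull b))
    (hc : PreservesFiniteLimits (EtCoh.pull c)) (i ν : ℕ) (x : EtAdic.Hmod C ℓ i ν) :
    EtAdic.Hmap ℓ a ha i ν (EtAdic.Hmap ℓ b hb i ν x) = EtAdic.Hmap ℓ c hc i ν x := by
  haveI := ha; haveI := hb; haveI := hc
  show (EtCore.Hpull a (EtCoh.const B (ZMod (ℓ ^ ν))) i ((EtCore.Hpull b (EtCoh.const C (ZMod (ℓ ^ ν))) i x).comp
      (Ext.mk₀ (EtCore.pullConst b (ZMod (ℓ ^ ν))).hom) (add_zero i))).comp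
      (Ext.mk₀ (EtCore.pullConst a (ZMod (ℓ ^ ν))).hom) (add_zero i) =
    (EtCore.Hpull c (EtCoh.const C (ZMod (ℓ ^ ν))) i x).comp (Ext.mk₀ (EtCore.pullConst c (ZMod (ℓ ^ ν))).hom) (add_zero i)
  rw [EtAcycLib.Hpull_postcomp, Ext.comp_assoc_of_second_deg_zero, Ext.mk₀_comp_mk₀,
    pullConst_comp a b c w, ← Ext.mk₀_comp_mk₀, ← Ext.comp_assoc_of_second_deg_zero]
  exact congrArg (fun t => Ext.comp t _ (add_zero i)) (EtContLib.hpull_comp a b c w _ i x)

end HmapLib
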